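import Cfsg.Agent.Omega.NoFF.ThmJ

/-!
# NO-3S, natural lines: LEMMA FIX (bb OMEGA #19497 helper77, #19593 helper734), the count

`V` elementary abelian of order `q²`, `Y`, `Z ≤ V` of order `q`, `Y ∩ Z = 1`; `A` elementary abelian, `[V, A] ≤ Z`, the
elements of `Y#` are moved by `A - C_A(V)`; `w` an involution, `w` commutes with `V` and with all `w^a`, `[w, C_A(V)] ≤ Y`.
If `A` is an offender on `F = V⟨w^A⟩` (that is `|A : C_A(F)| ≥ |F : C_F(A)|`) then `C_A(V)` centralises `w`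
(`Core.comm`), and if moreover `|A : C_A(V)| ≤ q` then `w ∈ V C(A)` (`Core.exists_mul`).

PROOF (count). Suppose not. `F₂ = {u ∈ F : [u, C_A(V)] ≤ Y}`, `F₁ = C_F(C_A(V))`, `F₀ = C_F(A)`:
`|F : F₂| ≥ |A : C_A(V)|` (by `a ↦ w^a`), `|F₂ : F₁| ≥ 2` (by `w`), `|F₁ : F₀| ≥ q` (by `V`), and
`|A : C_A(F)| ≤ |A : C_A(V)| q`.
-/

set_option autoImplicit false
set_option linter.unusedSectionVars false

namespace Cfsg.Agent.Omega.NO3S.Fix

open Subgroup Cfsg.Agent.Omega.NoFF.Basic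
open Cfsg.Agent.Omega.NoFF.ThmJ (EA MaxEA card_sup_mul card_mul_relIndex)
open scoped Pointwise

variable {G : Type*} [Group G]

/-- `F = V⟨w^A⟩` -/
def FF (A V : Subgroup G) (w : G) : Subgroup G := V ⊔ closure {x | ∃ a ∈ A, x = a * w * a⁻¹}

/-- The hypotheses. -/
structure Core (A V Z Y : Subgroup G) (w : G) : Prop where
  Aea : EA A
  Vea : EA V
  YV : Y ≤ V
  YZ : ∀ v ∈ Y, v ∈ Z → v = 1
  cY : Nat.card Y ≤ Nat.card Z
  cV : Nat.card V = Nat.card Z * Nat.card Z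
  fixV : ∀ v ∈ V, (∀ a ∈ A, a * v = v * a) → v ∈ Z
  act : ∀ a ∈ A, ∀ v ∈ V, a * v * a⁻¹ * v⁻¹ ∈ Z
  norm : A ≤ normalizer (V : Set G)
  free : ∀ a ∈ A, ∀ v ∈ Y, v ≠ 1 → a * v = v * a → a ∈ centralizer (V : Set G)
  wsq : w * w = 1
  wV : ∀ v ∈ V, w * v = v * w
  ww : ∀ a ∈ A, w * (a * w * a⁻¹) = a * w * a⁻¹ * w
  wY : ∀ b ∈ A, b ∈ centralizer (V : Set G) → b * w * b⁻¹ * w⁻¹ ∈ Y

theorem mem_sup_comm {X Y : Subgroup G} (hc : ∀ x ∈ X, ∀ y ∈ Y, x * y = y * x) {u : G} (hu : u ∈ X ⊔ Y) :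
    ∃ x ∈ X, ∃ y ∈ Y, u = x * y := by
  rw [sup_eq_closure, ← SetLike.mem_coe] at hu
  induction hu using closure_induction with
  | mem x hx =>
    rcases hx with hx | hx
    · exact ⟨x, hx, 1, one_mem _, (mul_one _).symm⟩
    · exact ⟨1, one_mem _, x, hx, (one_mul _).symm⟩
  | one => exact ⟨1, one_mem _, 1, one_mem _, (one_mul _).symm⟩
  | mul a b _ _ h1 h2 =>
    obtain ⟨x, hx, y, hy, rfl⟩ := h1
    obtain ⟨x', hx', y', hy', rfl⟩ := h2
    refine ⟨x * x', mul_mem hx hx', y * y', mul_mem hy hy', ?_⟩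
    calc x * y * (x' * y') = x * (y * x') * y' := by group
      _ = x * (x' * y) * y' := by rw [hc x' hx' y hy]
      _ = _ := by group
  | inv a _ h1 =>
    obtain ⟨x, hx, y, hy, rfl⟩ := h1
    refine ⟨x⁻¹, inv_mem hx, y⁻¹, inv_mem hy, ?_⟩
    rw [mul_inv_rev]
    exact (hc _ (inv_mem hx) _ (inv_mem hy)).symm

/-- injection of coset spaces -/
theorem relIndex_le_of {α : Type*} [Finite α] {H K : Subgroup G} (f : K → α)
    (hf : ∀ a b : K, f a = f b → (a : G)⁻¹ * b ∈ H) : H.relIndex K ≤ Nat.card α := by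
  rw [Subgroup.relIndex, Subgroup.index]
  refine Nat.card_le_card_of_injective (fun x : K ⧸ H.subgroupOf K => f x.out) ?_
  intro x y hxy
  have h1 := hf _ _ hxy
  rw [← x.out_eq', ← y.out_eq', QuotientGroup.eq]
  exact mem_subgroupOf.2 (by simpa using h1)

namespace Core

variable {A V Z Y : Subgroup G} {w : G} (h : Core A V Z Y w)
include h

theorem comm_A {a b : G} (ha : a ∈ A) (hb : b ∈ A) : a * b = b * a := (mem_centralizer_iff.1 (h.Aea.comm hb) a ha)

theorem comm_V {a b : G} (ha : a ∈ V) (hb : b ∈ V) : a * b = b * a := (mem_centralizer_iff.1 (h.Vea.comm hb) a ha)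

theorem conj_mem {a v : G} (ha : a ∈ A) (hv : v ∈ V) : a * v * a⁻¹ ∈ V :=
  (mem_normalizer_iff.1 (h.norm ha) v).1 hv

/-- `w^a` and `w^b` commute -/
theorem ww' {a b : G} (ha : a ∈ A) (hb : b ∈ A) :
    a * w * a⁻¹ * (b * w * b⁻¹) = b * w * b⁻¹ * (a * w * a⁻¹) := by
  have h1 := h.ww (a⁻¹ * b) (mul_mem (inv_mem ha) hb)
  calc a * w * a⁻¹ * (b * w * b⁻¹) = a * (w * (a⁻¹ * b * w * (a⁻¹ * b)⁻¹)) * a⁻¹ := by group
    _ = a * (a⁻¹ * b * w * (a⁻¹ * b)⁻¹ * w) * a⁻¹ := by rw [h1]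
    _ = _ := by group

/-- `w^a` commutes with `V` -/
theorem wV' {a v : G} (ha : a ∈ A) (hv : v ∈ V) : a * w * a⁻¹ * v = v * (a * w * a⁻¹) := by
  have h1 := h.wV (a⁻¹ * v * a⁻¹⁻¹) (h.conj_mem (inv_mem ha) hv)
  calc a * w * a⁻¹ * v = a * (w * (a⁻¹ * v * a⁻¹⁻¹)) * a⁻¹ := by group
    _ = a * (a⁻¹ * v * a⁻¹⁻¹ * w) * a⁻¹ := by rw [h1]
    _ = _ := by group

/-- the generating set -/
theorem FF_eq : FF A V w = closure ((V : Set G) ∪ {x | ∃ a ∈ A, x = a * w * a⁻¹}) := by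
  rw [FF, Subgroup.closure_union, Subgroup.closure_eq]

theorem V_le : V ≤ FF A V w := le_sup_left

theorem mem_FF {a : G} (ha : a ∈ A) : a * w * a⁻¹ ∈ FF A V w :=
  mem_sup_right (subset_closure ⟨a, ha, rfl⟩)

theorem w_mem : w ∈ FF A V w := by
  have h1 := h.mem_FF (one_mem A)
  simpa using h1

theorem gen_comm {x y : G} (hx : x ∈ (V : Set G) ∪ {x | ∃ a ∈ A, x = a * w * a⁻¹})
    (hy : y ∈ (V : Set G) ∪ {x | ∃ a ∈ A, x = a * w * a⁻¹}) : x * y = y * x := by
  rcases hx with hx | ⟨a, ha, rfl⟩ <;> rcases hy with hy | ⟨b, hb, rfl⟩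
  · exact h.comm_V hx hy
  · exact (h.wV' hb hx).symm
  · exact h.wV' ha hy
  · exact h.ww' ha hb

theorem F_comm {x y : G} (hx : x ∈ FF A V w) (hy : y ∈ FF A V w) : x * y = y * x := by
  have h1 : FF A V w ≤ centralizer ((FF A V w : Subgroup G) : Set G) := by
    have h2 : ((V : Set G) ∪ {x | ∃ a ∈ A, x = a * w * a⁻¹}) ⊆
        centralizer ((V : Set G) ∪ {x | ∃ a ∈ A, x = a * w * a⁻¹}) := by
      intro x hx
      rw [SetLike.mem_coe, mem_centralizer_iff]
      exact fun y hy => h.gen_comm hy hx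
    rw [h.FF_eq, closure_le]
    intro x hx
    rw [SetLike.mem_coe, mem_centralizer_iff]
    intro y hy
    have h3 : closure ((V : Set G) ∪ {x | ∃ a ∈ A, x = a * w * a⁻¹}) ≤ centralizer ({x} : Set G) := by
      rw [closure_le]
      intro z hz
      rw [SetLike.mem_coe, mem_centralizer_iff]
      intro u hu
      rw [Set.mem_singleton_iff.1 hu]
      exact h.gen_comm hx hz
    exact ((mem_centralizer_iff.1 (h3 hy)) x rfl).symm
  exact mem_centralizer_iff.1 (h1 hy) x hx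

theorem gen_sq {x : G} (hx : x ∈ (V : Set G) ∪ {x | ∃ a ∈ A, x = a * w * a⁻¹}) : x * x = 1 := by
  rcases hx with hx | ⟨a, ha, rfl⟩
  · have := h.Vea.sq x hx
    rwa [pow_two] at this
  · calc a * w * a⁻¹ * (a * w * a⁻¹) = a * (w * w) * a⁻¹ := by group
      _ = 1 := by rw [h.wsq]; group

theorem F_sq {x : G} (hx : x ∈ FF A V w) : x * x = 1 := by
  have h0 := hx
  rw [h.FF_eq] at h0
  induction h0 using closure_induction with
  | mem x hx' => exact h.gen_sq hx'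
  | one => exact one_mul 1
  | mul x y hx' hy' h1 h2 =>
    have hx2 : x ∈ FF A V w := by rw [h.FF_eq]; exact hx'
    have hy2 : y ∈ FF A V w := by rw [h.FF_eq]; exact hy'
    calc x * y * (x * y) = x * (y * x) * y := by group
      _ = x * (x * y) * y := by rw [h.F_comm hy2 hx2]
      _ = x * x * (y * y) := by group
      _ = 1 := by rw [h1 hx2, h2 hy2, one_mul]
  | inv x hx' h1 =>
    have hx2 : x ∈ FF A V w := by rw [h.FF_eq]; exact hx'
    rw [← mul_inv_rev, h1 hx2, inv_one]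

theorem F_EA : EA (FF A V w) := ⟨fun x hx => mem_centralizer_iff.2 fun y hy => h.F_comm hy hx,
  fun x hx => by rw [pow_two]; exact h.F_sq hx⟩

theorem F_norm {a x : G} (ha : a ∈ A) (hx : x ∈ FF A V w) : a * x * a⁻¹ ∈ FF A V w := by
  rw [h.FF_eq] at hx ⊢
  induction hx using closure_induction with
  | mem x hx' =>
    refine subset_closure ?_
    rcases hx' with hx' | ⟨b, hb, rfl⟩
    · exact Or.inl (h.conj_mem ha hx')
    · exact Or.inr ⟨a * b, mul_mem ha hb, by group⟩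
  | one => simp
  | mul x y _ _ h1 h2 =>
    have e : a * (x * y) * a⁻¹ = (a * x * a⁻¹) * (a * y * a⁻¹) := by group
    rw [e]; exact mul_mem h1 h2
  | inv x _ h1 =>
    have e : a * x⁻¹ * a⁻¹ = (a * x * a⁻¹)⁻¹ := by group
    rw [e]; exact inv_mem h1

/-- `C_A(V)` -/
theorem mem_A1 {b : G} : b ∈ A ⊓ centralizer (V : Set G) ↔ b ∈ A ∧ ∀ v ∈ V, b * v = v * b := by
  rw [mem_inf, mem_centralizer_iff]
  exact ⟨fun h1 => ⟨h1.1, fun v hv => (h1.2 v hv).symm⟩, fun h1 => ⟨h1.1, fun v hv => (h1.2 v hv).symm⟩⟩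

/-- `C_{C_A(V)}(w)` centralises `F` -/
theorem D_le : (A ⊓ centralizer (V : Set G)) ⊓ centralizer ({w} : Set G) ≤
    A ⊓ centralizer ((FF A V w : Subgroup G) : Set G) := by
  rintro b ⟨hb1, hb2⟩
  have hb := h.mem_A1.1 hb1
  refine mem_inf.2 ⟨hb.1, ?_⟩
  have hw : b * w = w * b := (mem_centralizer_iff.1 hb2 w rfl).symm
  have h3 : FF A V w ≤ centralizer ({b} : Set G) := by
    rw [h.FF_eq, closure_le]
    intro z hz
    rw [SetLike.mem_coe, mem_centralizer_iff]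
    intro u hu
    rw [Set.mem_singleton_iff.1 hu]
    rcases hz with hz | ⟨a, ha, rfl⟩
    · exact hb.2 z hz
    · have h4 := h.comm_A hb.1 ha
      calc b * (a * w * a⁻¹) = b * a * w * a⁻¹ := by group
        _ = a * (b * w) * a⁻¹ := by rw [h4]; group
        _ = a * w * (a⁻¹ * (a * b)) * a⁻¹ := by rw [hw]; group
        _ = a * w * (a⁻¹ * (b * a)) * a⁻¹ := by rw [h4]
        _ = _ := by group
  rw [mem_centralizer_iff]
  intro y hy
  exact ((mem_centralizer_iff.1 (h3 hy)) b rfl).symm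

variable [Finite G]

/-- `|C_A(V)| ≤ |C_{C_A(V)}(w)| q` -/
theorem card_A1 : Nat.card (A ⊓ centralizer (V : Set G) : Subgroup G) ≤
    Nat.card ((A ⊓ centralizer (V : Set G)) ⊓ centralizer ({w} : Set G) : Subgroup G) * Nat.card Z := by
  have h1 : ((A ⊓ centralizer (V : Set G)) ⊓ centralizer ({w} : Set G)).relIndex (A ⊓ centralizer (V : Set G)) ≤
      Nat.card Y := by
    refine relIndex_le_of (fun b => ⟨(b : G) * w * (b : G)⁻¹ * w⁻¹, h.wY b b.2.1 b.2.2⟩) ?_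
    intro a b hab
    have h2 : (a : G) * w * (a : G)⁻¹ * w⁻¹ = (b : G) * w * (b : G)⁻¹ * w⁻¹ := congrArg Subtype.val hab
    refine mem_inf.2 ⟨mul_mem (inv_mem a.2) b.2, ?_⟩
    rw [mem_centralizer_iff]
    intro u hu
    rw [Set.mem_singleton_iff.1 hu]
    have h3 : (a : G) * w * (a : G)⁻¹ = (b : G) * w * (b : G)⁻¹ := mul_right_cancel h2
    calc w * ((a : G)⁻¹ * b) = (a : G)⁻¹ * (a * w * (a : G)⁻¹) * b := by group
      _ = (a : G)⁻¹ * (b * w * (b : G)⁻¹) * b := by rw [h3]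
      _ = _ := by group
  rw [← card_mul_relIndex (H := (A ⊓ centralizer (V : Set G)) ⊓ centralizer ({w} : Set G))
    (K := A ⊓ centralizer (V : Set G)) inf_le_left]
  exact Nat.mul_le_mul_left _ (h1.trans h.cY)

/-- `|C_F(A)| q ≤ |C_F(A) V|` -/
theorem card_V : Nat.card (FF A V w ⊓ centralizer (A : Set G) : Subgroup G) * Nat.card Z ≤
    Nat.card ((FF A V w ⊓ centralizer (A : Set G)) ⊔ V : Subgroup G) := by
  have h2 : V ≤ normalizer ((FF A V w ⊓ centralizer (A : Set G) : Subgroup G) : Set G) := by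
    refine le_trans ?_ (centralizer_le_normalizer _)
    intro v hv
    rw [mem_centralizer_iff]
    exact fun x hx => h.F_comm hx.1 (h.V_le hv)
  have h3 := card_sup_mul h2
  have h4 : Nat.card ((FF A V w ⊓ centralizer (A : Set G)) ⊓ V : Subgroup G) ≤ Nat.card Z := by
    refine Subgroup.card_le_of_le ?_
    rintro v ⟨hv1, hv2⟩
    exact h.fixV v hv2 fun a ha => mem_centralizer_iff.1 hv1.2 a ha
  rw [h.cV] at h3
  have h5 : Nat.card (FF A V w ⊓ centralizer (A : Set G) : Subgroup G) * Nat.card Z * Nat.card Z ≤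
      Nat.card ((FF A V w ⊓ centralizer (A : Set G)) ⊔ V : Subgroup G) * Nat.card Z := by
    rw [mul_assoc, ← h3]
    exact Nat.mul_le_mul_left _ h4
  exact Nat.le_of_mul_le_mul_right h5 Nat.card_pos

/-- The count. -/
theorem comm (off : Nat.card (A ⊓ centralizer ((FF A V w : Subgroup G) : Set G) : Subgroup G) * Nat.card (FF A V w) ≤
      Nat.card A * Nat.card (FF A V w ⊓ centralizer (A : Set G) : Subgroup G)) {b₀ : G} (hb₀ : b₀ ∈ A)
    (hbV : b₀ ∈ centralizer (V : Set G)) : b₀ * w = w * b₀ := by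
  by_contra hne
  set F := FF A V w with hF
  set A1 := A ⊓ centralizer (V : Set G) with hA1
  set D := A1 ⊓ centralizer ({w} : Set G) with hD
  set F0 := F ⊓ centralizer (A : Set G) with hF0
  set F1 := F ⊓ centralizer (A1 : Set G) with hF1
  let F2 : Subgroup G :=
    { carrier := {u | u ∈ F ∧ ∀ b ∈ A1, b * u * b⁻¹ * u⁻¹ ∈ Y}
      one_mem' := ⟨one_mem _, fun b _ => by simp [one_mem]⟩
      mul_mem' := by
        rintro u u' ⟨hu, hu1⟩ ⟨hu', hu1'⟩
        refine ⟨mul_mem hu hu', fun b hb => ?_⟩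
        have h1 := h.F_comm hu (h.V_le (h.YV (hu1' b hb)))
        have e : b * (u * u') * b⁻¹ * (u * u')⁻¹ =
          (b * u * b⁻¹ * u⁻¹) * (u * (b * u' * b⁻¹ * u'⁻¹) * u⁻¹) := by group
        rw [e, h1, mul_inv_cancel_right]
        exact mul_mem (hu1 b hb) (hu1' b hb)
      inv_mem' := by
        rintro u ⟨hu, hu1⟩
        have e : u⁻¹ = u := inv_eq_of_mul_eq_one_left (h.F_sq hu)
        rw [e]
        exact ⟨hu, hu1⟩ }
  have hF2F : F2 ≤ F := fun u hu => hu.1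
  have hF12 : F1 ≤ F2 := by
    rintro u ⟨hu1, hu2⟩
    refine ⟨hu1, fun b hb => ?_⟩
    have h1 := mem_centralizer_iff.1 hu2 b hb
    rw [h1, mul_inv_cancel_right, mul_inv_cancel]
    exact one_mem _
  have hwF2 : w ∈ F2 := ⟨h.w_mem, fun b hb => h.wY b hb.1 hb.2⟩
  have hwF1 : w ∉ F1 := fun hw => hne (mem_centralizer_iff.1 hw.2 b₀ ⟨hb₀, hbV⟩)
  -- `2 |F₁| ≤ |F₂|`
  have c12 : Nat.card F1 * 2 ≤ Nat.card F2 := by
    rw [← card_mul_relIndex hF12]
    refine Nat.mul_le_mul_left _ ?_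
    have h1 : F1.relIndex F2 ≠ 0 := by
      intro h0
      have := card_mul_relIndex hF12
      rw [h0, mul_zero] at this
      exact (Nat.card_pos (α := F2)).ne this
    have h2 : F1.relIndex F2 ≠ 1 := fun h1 => hwF1 (relIndex_eq_one.1 h1 hwF2)
    omega
  -- `|C_F(A)| q ≤ |F₁|`
  have c01 : Nat.card F0 * Nat.card Z ≤ Nat.card F1 := by
    refine h.card_V.trans (Subgroup.card_le_of_le (sup_le ?_ ?_))
    · rintro u ⟨hu1, hu2⟩
      exact ⟨hu1, (centralizer_le (inf_le_left : A1 ≤ A)) hu2⟩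
    · intro v hv
      refine mem_inf.2 ⟨h.V_le hv, ?_⟩
      rw [mem_centralizer_iff]
      exact fun b hb => (h.mem_A1.1 hb).2 v hv
  -- `|A : A₁| ≤ |F : F₂|`
  have cA : A1.relIndex A ≤ F2.relIndex F := by
    change A1.relIndex A ≤ Nat.card (F ⧸ F2.subgroupOf F)
    refine relIndex_le_of (fun a => (QuotientGroup.mk (⟨(a : G) * w * (a : G)⁻¹, h.mem_FF a.2⟩ : F) :
      F ⧸ F2.subgroupOf F)) ?_
    intro a b hab
    rw [QuotientGroup.eq] at hab
    have h1 : ((a : G) * w * (a : G)⁻¹)⁻¹ * ((b : G) * w * (b : G)⁻¹) ∈ F2 := mem_subgroupOf.1 hab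
    have hv := h.wY b₀ hb₀ hbV
    set v := b₀ * w * b₀⁻¹ * w⁻¹ with hvdef
    have hv1 : v ≠ 1 := by
      intro h0
      refine hne ?_
      have h2 : b₀ * w * b₀⁻¹ = w := by
        have := mul_eq_one_iff_eq_inv.1 h0
        rwa [inv_inv] at this
      calc b₀ * w = b₀ * w * b₀⁻¹ * b₀ := by group
        _ = w * b₀ := by rw [h2]
    -- `[w^a, b₀] = v^a`
    have key : ∀ c ∈ A, b₀ * (c * w * c⁻¹) * b₀⁻¹ * (c * w * c⁻¹)⁻¹ = c * v * c⁻¹ := by
      intro c hc
      have h4 := h.comm_A hb₀ hc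
      have h5 : b₀ * c * w * c⁻¹ * b₀⁻¹ = c * b₀ * w * (c * b₀)⁻¹ := by
        rw [h4]
        have h6 : c⁻¹ * b₀⁻¹ = (c * b₀)⁻¹ := by rw [← h4, mul_inv_rev]
        rw [mul_assoc (c * b₀ * w), h6]
      calc b₀ * (c * w * c⁻¹) * b₀⁻¹ * (c * w * c⁻¹)⁻¹ = (b₀ * c * w * c⁻¹ * b₀⁻¹) * (c * w * c⁻¹)⁻¹ := by group
        _ = (c * b₀ * w * (c * b₀)⁻¹) * (c * w * c⁻¹)⁻¹ := by rw [h5]
        _ = _ := by rw [hvdef]; group
    have h6 := h1.2 b₀ ⟨hb₀, hbV⟩
    have hva := h.YV hv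
    have hxa : (a : G) * w * (a : G)⁻¹ ∈ F := h.mem_FF a.2
    have hxb : (b : G) * w * (b : G)⁻¹ ∈ F := h.mem_FF b.2
    have e1 : ((a : G) * w * (a : G)⁻¹)⁻¹ = (a : G) * w * (a : G)⁻¹ :=
      inv_eq_of_mul_eq_one_left (h.F_sq hxa)
    rw [e1] at h6
    -- the commutator of the product
    have e2 : b₀ * ((a : G) * w * (a : G)⁻¹ * ((b : G) * w * (b : G)⁻¹)) * b₀⁻¹ *
        ((a : G) * w * (a : G)⁻¹ * ((b : G) * w * (b : G)⁻¹))⁻¹ = ((a : G) * v * (a : G)⁻¹) * ((b : G) * v * (b : G)⁻¹) := by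
      have h7 := key a a.2
      have h8 := key b b.2
      have h9 := h.F_comm hxa (h.V_le (h.conj_mem b.2 hva))
      calc _ = (b₀ * ((a : G) * w * (a : G)⁻¹) * b₀⁻¹ * ((a : G) * w * (a : G)⁻¹)⁻¹) *
            (((a : G) * w * (a : G)⁻¹) * (b₀ * ((b : G) * w * (b : G)⁻¹) * b₀⁻¹ * ((b : G) * w * (b : G)⁻¹)⁻¹) *
              ((a : G) * w * (a : G)⁻¹)⁻¹) := by group
        _ = _ := by rw [h7, h8, h9, mul_inv_cancel_right]
    rw [e2] at h6
    -- it lies in `Z`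
    have h10 : ((a : G) * v * (a : G)⁻¹) * ((b : G) * v * (b : G)⁻¹) ∈ Z := by
      have h11 := mul_mem (h.act a a.2 v hva) (h.act b b.2 v hva)
      have h12 := h.comm_V (h.conj_mem b.2 hva) (inv_mem hva)
      have h13 : v⁻¹ * v⁻¹ = 1 := by
        have := h.Vea.sq v hva
        rw [pow_two] at this
        rw [← mul_inv_rev, this, inv_one]
      have e3 : (a : G) * v * (a : G)⁻¹ * v⁻¹ * ((b : G) * v * (b : G)⁻¹ * v⁻¹) =
          (a : G) * v * (a : G)⁻¹ * ((b : G) * v * (b : G)⁻¹) := by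
        rw [h12]
        calc _ = (a : G) * v * (a : G)⁻¹ * (v⁻¹ * v⁻¹) * ((b : G) * v * (b : G)⁻¹) := by group
          _ = _ := by rw [h13, mul_one]
      rwa [e3] at h11
    have h14 := h.YZ _ h6 h10
    have h15 : (b : G) * v * (b : G)⁻¹ * ((b : G) * v * (b : G)⁻¹) = 1 := by
      have := h.Vea.sq v hva
      rw [pow_two] at this
      calc _ = (b : G) * (v * v) * (b : G)⁻¹ := by group
        _ = 1 := by rw [this]; group
    have h16 : (a : G) * v * (a : G)⁻¹ = (b : G) * v * (b : G)⁻¹ := mul_right_cancel (h14.trans h15.symm)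
    have h17 : ((a : G)⁻¹ * b) * v = v * ((a : G)⁻¹ * b) := by
      calc ((a : G)⁻¹ * b) * v = (a : G)⁻¹ * ((b : G) * v * (b : G)⁻¹) * b := by group
        _ = (a : G)⁻¹ * ((a : G) * v * (a : G)⁻¹) * b := by rw [h16]
        _ = _ := by group
    exact mem_inf.2 ⟨mul_mem (inv_mem a.2) b.2, h.free _ (mul_mem (inv_mem a.2) b.2) v hv hv1 h17⟩
  -- the contradiction
  have cF : Nat.card F2 * A1.relIndex A ≤ Nat.card F := by
    rw [← card_mul_relIndex hF2F]
    exact Nat.mul_le_mul_left _ cA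
  have cAA : Nat.card A1 * A1.relIndex A = Nat.card A := card_mul_relIndex inf_le_left
  have cD := h.card_A1
  have cDF : Nat.card D ≤ Nat.card (A ⊓ centralizer ((F : Subgroup G) : Set G) : Subgroup G) :=
    Subgroup.card_le_of_le h.D_le
  have hi : 0 < A1.relIndex A := by
    rcases Nat.eq_zero_or_pos (A1.relIndex A) with h0 | h0
    · rw [h0, mul_zero] at cAA
      exact absurd cAA.symm (Nat.card_pos (α := A)).ne'
    · exact h0
  have hDp : 0 < Nat.card D := Nat.card_pos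
  have hZp : 0 < Nat.card Z := Nat.card_pos
  have hF0p : 0 < Nat.card F0 := Nat.card_pos
  have e1 : Nat.card D * (Nat.card F0 * Nat.card Z * 2 * A1.relIndex A) ≤ Nat.card A * Nat.card F0 := by
    refine le_trans ?_ off
    refine Nat.mul_le_mul cDF (le_trans ?_ cF)
    refine Nat.mul_le_mul_right _ (le_trans ?_ c12)
    exact Nat.mul_le_mul_right _ c01
  have e2 : Nat.card A * Nat.card F0 ≤ Nat.card D * Nat.card Z * A1.relIndex A * Nat.card F0 := by
    rw [← cAA]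
    exact Nat.mul_le_mul_right _ (Nat.mul_le_mul_right _ cD)
  have e3 : Nat.card D * (Nat.card F0 * Nat.card Z * 2 * A1.relIndex A) =
      2 * (Nat.card D * Nat.card Z * A1.relIndex A * Nat.card F0) := by ring
  have e4 : 0 < Nat.card D * Nat.card Z * A1.relIndex A * Nat.card F0 := by positivity
  have e5 := e1.trans e2
  rw [e3] at e5
  omega

/-- `w ∈ V C(A)` -/
theorem exists_mul (off : Nat.card (A ⊓ centralizer ((FF A V w : Subgroup G) : Set G) : Subgroup G) * Nat.card (FF A V w) ≤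
      Nat.card A * Nat.card (FF A V w ⊓ centralizer (A : Set G) : Subgroup G))
    (hq : Nat.card A ≤ Nat.card (A ⊓ centralizer (V : Set G) : Subgroup G) * Nat.card Z) :
    ∃ c ∈ FF A V w, (∀ a ∈ A, a * c = c * a) ∧ ∃ v ∈ V, w = c * v := by
  set F := FF A V w with hF
  have h1 : A ⊓ centralizer (V : Set G) ≤ A ⊓ centralizer ((F : Subgroup G) : Set G) := by
    refine le_trans (le_inf le_rfl ?_) h.D_le
    intro b hb
    rw [mem_centralizer_iff]
    intro u hu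
    rw [Set.mem_singleton_iff.1 hu]
    exact (h.comm off hb.1 hb.2).symm
  have h2 := Subgroup.card_le_of_le h1
  have h3 : Nat.card F ≤ Nat.card (F ⊓ centralizer (A : Set G) : Subgroup G) * Nat.card Z := by
    have h4 : Nat.card (A ⊓ centralizer (V : Set G) : Subgroup G) * Nat.card F ≤
        Nat.card (A ⊓ centralizer (V : Set G) : Subgroup G) *
          (Nat.card (F ⊓ centralizer (A : Set G) : Subgroup G) * Nat.card Z) := by
      calc _ ≤ Nat.card (A ⊓ centralizer ((F : Subgroup G) : Set G) : Subgroup G) * Nat.card F :=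
            Nat.mul_le_mul_right _ h2
        _ ≤ Nat.card A * Nat.card (F ⊓ centralizer (A : Set G) : Subgroup G) := off
        _ ≤ Nat.card (A ⊓ centralizer (V : Set G) : Subgroup G) * Nat.card Z *
            Nat.card (F ⊓ centralizer (A : Set G) : Subgroup G) := Nat.mul_le_mul_right _ hq
        _ = _ := by ring
    exact Nat.le_of_mul_le_mul_left h4 Nat.card_pos
  have h5 : (F ⊓ centralizer (A : Set G)) ⊔ V = F := by
    refine Subgroup.eq_of_le_of_card_ge (sup_le inf_le_left h.V_le) (h3.trans h.card_V)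
  have h6 : w ∈ (F ⊓ centralizer (A : Set G)) ⊔ V := by rw [h5]; exact h.w_mem
  obtain ⟨c, hc, v, hv, e⟩ := mem_sup_comm (X := F ⊓ centralizer (A : Set G)) (Y := V)
    (fun a ha b hb => h.F_comm (mem_inf.1 ha).1 (h.V_le hb)) h6
  exact ⟨c, hc.1, fun a ha => mem_centralizer_iff.1 hc.2 a ha, v, hv, e⟩

end Core

end Cfsg.Agent.Omega.NO3S.Fix
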